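import Mathlib
import Groth.Agent.ASp.ValComposite
import Groth.Agent.DVRCrit.Centre
import Groth.Agent.DVRCrit.Local
import Groth.Agent.SpreadOut.Components

set_option autoImplicit false
set_option linter.style.haveILetI false

/-! # The valuative criterion tested on a dense part of the source -/

universe u

open CategoryTheory CategoryTheory.Limits AlgebraicGeometry IsLocalRing

namespace Groth.Agent.DenseVal

variable {U X S : Scheme.{u}}

/-- Morphisms out of the spectrum of a local ring are determined by the closed point and an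
injective restriction. -/
theorem hom_eq {R K : Type u} [CommRing R] [IsLocalRing R] [CommRing K] (ψ : R →+* K)
    (hψ : Function.Injective ψ) (g₁ g₂ : Spec (CommRingCat.of R) ⟶ X)
    (hc : g₁ (closedPoint R) = g₂ (closedPoint R))
    (h : Spec.map (CommRingCat.ofHom ψ) ≫ g₁ = Spec.map (CommRingCat.ofHom ψ) ≫ g₂) : g₁ = g₂ := by
  obtain ⟨_, ⟨V, hV, rfl⟩, hxV, -⟩ :=
    X.isBasis_affineOpens.exists_subset_of_mem_open (Set.mem_univ (g₁ (closedPoint R))) isOpen_univ
  obtain ⟨χ₁, rfl⟩ := DVRCrit.exists_factor hV g₁ (DVRCrit.range_subset_of_closedPoint g₁ hxV)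
  obtain ⟨χ₂, rfl⟩ := DVRCrit.exists_factor hV g₂ (DVRCrit.range_subset_of_closedPoint g₂ (hc ▸ hxV))
  rw [← Spec.map_comp_assoc, ← Spec.map_comp_assoc] at h
  have := DVRCrit.fromSpec_inj hV h
  congr 2
  ext a
  exact hψ (congrArg (fun φ : Γ(X, V) ⟶ CommRingCat.of K => φ a) this)

/-- A morphism on a dominating extension of a valuation ring descends. -/
theorem descend {R K Ω : Type u} [CommRing R] [IsDomain R] [ValuationRing R] [Field K] [Algebra R K]
    [IsFractionRing R K] [Field Ω] (ψ : K →+* Ω) (B : ValuationSubring Ω) (φ : R →+* B) [IsLocalHom φ]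
    (comm : ∀ r, (φ r : Ω) = ψ (algebraMap R K r))
    (i₁ : Spec (CommRingCat.of K) ⟶ X) (m : Spec (CommRingCat.of B) ⟶ X)
    (h : Spec.map (CommRingCat.ofHom B.subtype) ≫ m = Spec.map (CommRingCat.ofHom ψ) ≫ i₁) :
    ∃ l : Spec (CommRingCat.of R) ⟶ X,
      Spec.map (CommRingCat.ofHom (algebraMap R K)) ≫ l = i₁ ∧ Spec.map (CommRingCat.ofHom φ) ≫ l = m := by
  obtain ⟨_, ⟨V, hV, rfl⟩, hxV, -⟩ :=
    X.isBasis_affineOpens.exists_subset_of_mem_open (Set.mem_univ (m (closedPoint B))) isOpen_univ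
  have h1 : i₁ (closedPoint K) ∈ V := by
    have := congrArg (fun g : Spec (CommRingCat.of Ω) ⟶ X => g (closedPoint Ω)) h
    simp only [Scheme.Hom.comp_apply] at this
    rw [Subsingleton.elim (Spec.map (CommRingCat.ofHom ψ) (closedPoint Ω)) (closedPoint K)] at this
    rw [← this]
    exact DVRCrit.range_subset_of_closedPoint m hxV ⟨_, rfl⟩
  obtain ⟨Θ, rfl⟩ := DVRCrit.exists_factor hV i₁ (DVRCrit.range_subset_of_closedPoint i₁ h1)
  obtain ⟨χ, rfl⟩ := DVRCrit.exists_factor hV m (DVRCrit.range_subset_of_closedPoint m hxV)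
  rw [← Spec.map_comp_assoc, ← Spec.map_comp_assoc] at h
  have key : ∀ a, (χ a : Ω) = ψ (Θ a) := fun a =>
    congrArg (fun φ : Γ(X, V) ⟶ CommRingCat.of Ω => φ a) (DVRCrit.fromSpec_inj hV h)
  have hint : ∀ a, ∃ r, algebraMap R K r = Θ a := by
    intro a
    rcases ValuationRing.isInteger_or_isInteger R (Θ a) with hx | ⟨t, ht⟩
    · exact hx
    by_cases h0 : Θ a = 0
    · exact ⟨0, by rw [map_zero, h0]⟩
    have hu : IsUnit (φ t) := IsUnit.of_mul_eq_one (χ a) (Subtype.ext (by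
      change (φ t : Ω) * (χ a : Ω) = 1
      rw [comm, key, ht, ← map_mul, inv_mul_cancel₀ h0, map_one]))
    obtain ⟨u, rfl⟩ := IsLocalHom.map_nonunit (f := φ) t hu
    exact ⟨↑u⁻¹, by rw [map_units_inv, ht, inv_inv]⟩
  let e : R ≃+* (algebraMap R K).range := RingEquiv.ofBijective (algebraMap R K).rangeRestrict
    ⟨fun a b h => IsFractionRing.injective R K (congrArg Subtype.val h),
      (algebraMap R K).rangeRestrict_surjective⟩
  let ρ : Γ(X, V) →+* R := e.symm.toRingHom.comp (Θ.hom.codRestrict (algebraMap R K).range hint)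
  have hρ : ∀ a, algebraMap R K (ρ a) = Θ a := fun a =>
    congrArg Subtype.val (e.apply_symm_apply ⟨Θ.hom a, hint a⟩)
  refine ⟨Spec.map (CommRingCat.ofHom ρ) ≫ hV.fromSpec, ?_, ?_⟩
  · rw [← Spec.map_comp_assoc]
    congr 2
    ext a
    exact hρ a
  · rw [← Spec.map_comp_assoc]
    congr 2
    ext a
    change (φ (ρ a) : Ω) = χ a
    rw [comm, hρ, key]

/-- Morphisms from a valuation ring and from a valuation ring of its residue field glue to the
composite valuation ring. -/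
theorem glue {L : Type u} [Field L] (V : ValuationSubring L) (W : ValuationSubring (ResidueField V))
    (v : Spec (CommRingCat.of V) ⟶ X) (a : Spec (CommRingCat.of W) ⟶ X)
    (h : Spec.map (CommRingCat.ofHom W.subtype) ≫ a = Spec.map (CommRingCat.ofHom (residue V)) ≫ v) :
    ∃ c : Spec (CommRingCat.of (ASp.compositeVal V W)) ⟶ X,
      Spec.map (CommRingCat.ofHom (ValuationSubring.inclusion (ASp.compositeVal V W) V
        fun _ hx => (ASp.mem_compositeVal.1 hx).1)) ≫ c = v ∧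
      Spec.map (CommRingCat.ofHom (((residue V).comp (ValuationSubring.inclusion (ASp.compositeVal V W) V
        fun _ hx => (ASp.mem_compositeVal.1 hx).1)).codRestrict W.toSubring
          fun x => (ASp.mem_compositeVal.1 x.2).2)) ≫ c = a := by
  obtain ⟨_, ⟨T, hT, rfl⟩, hxT, -⟩ :=
    X.isBasis_affineOpens.exists_subset_of_mem_open (Set.mem_univ (a (closedPoint W))) isOpen_univ
  have h1 : v (closedPoint V) ∈ T := by
    have := congrArg (fun g : Spec (CommRingCat.of (ResidueField V)) ⟶ X => g (closedPoint (ResidueField V))) h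
    simp only [Scheme.Hom.comp_apply] at this
    rw [show Spec.map (CommRingCat.ofHom (residue V)) (closedPoint (ResidueField V)) = closedPoint V from
      comap_closedPoint (residue V)] at this
    rw [← this]
    exact DVRCrit.range_subset_of_closedPoint a hxT ⟨_, rfl⟩
  obtain ⟨Θ, rfl⟩ := DVRCrit.exists_factor hT v (DVRCrit.range_subset_of_closedPoint v h1)
  obtain ⟨χ, rfl⟩ := DVRCrit.exists_factor hT a (DVRCrit.range_subset_of_closedPoint a hxT)
  rw [← Spec.map_comp_assoc, ← Spec.map_comp_assoc] at h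
  have key : ∀ x, (χ x : ResidueField V) = residue V (Θ x) := fun x =>
    congrArg (fun φ : Γ(X, T) ⟶ CommRingCat.of (ResidueField V) => φ x) (DVRCrit.fromSpec_inj hT h)
  let ρ : Γ(X, T) →+* ASp.compositeVal V W := (V.subtype.comp Θ.hom).codRestrict
    (ASp.compositeVal V W).toSubring fun x => ASp.mem_compositeVal.2 ⟨(Θ x).2, (key x) ▸ (χ x).2⟩
  refine ⟨Spec.map (CommRingCat.ofHom ρ) ≫ hT.fromSpec, ?_, ?_⟩
  · rw [← Spec.map_comp_assoc]
    congr 2
  · rw [← Spec.map_comp_assoc]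
    congr 2
    ext x
    exact (key x).symm

/-- Morphisms out of the spectrum of a local ring are determined after a local injective
extension. -/
theorem hom_eq_of_local {R R' : Type u} [CommRing R] [IsLocalRing R] [CommRing R'] [IsLocalRing R']
    (φ : R →+* R') [IsLocalHom φ] (hφ : Function.Injective φ)
    (g₁ g₂ : Spec (CommRingCat.of R) ⟶ X)
    (h : Spec.map (CommRingCat.ofHom φ) ≫ g₁ = Spec.map (CommRingCat.ofHom φ) ≫ g₂) : g₁ = g₂ := by
  refine hom_eq φ hφ g₁ g₂ ?_ h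
  have := congrArg (fun g : Spec (CommRingCat.of R') ⟶ X => g (closedPoint R')) h
  simp only [Scheme.Hom.comp_apply] at this
  rwa [show Spec.map (CommRingCat.ofHom φ) (closedPoint R') = closedPoint R from comap_closedPoint φ] at this

/-- The restriction of a valuation ring to a subfield is dominated by it. -/
theorem isLocalHom_comap {k Ω : Type u} [Field k] [Field Ω] (ω : k →+* Ω) (A : ValuationSubring Ω) :
    IsLocalHom ((ω.comp (A.comap ω).subtype).codRestrict A.toSubring fun a => a.2) := by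
  refine ⟨fun a ha => ?_⟩
  obtain ⟨b, hb⟩ := ha.exists_left_inv
  have hb' : (b : Ω) * ω a = 1 := congrArg (fun z : A.toSubring => (z : Ω)) hb
  have hmem : (a : k)⁻¹ ∈ A.comap ω := by
    change ω _ ∈ A
    rw [map_inv₀, ← eq_inv_of_mul_eq_one_left hb']
    exact b.2
  exact IsUnit.of_mul_eq_one ⟨_, hmem⟩ (Subtype.ext (mul_inv_cancel₀ fun h0 => by
    rw [h0, map_zero, mul_zero] at hb'; exact zero_ne_one hb'))

/-- A point of the dense part, a valuation ring specialising to the top arrow of a square and a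
common extension. -/
theorem setup (h : U ⟶ X) [QuasiCompact h] (hd : DenseRange h.base)
    (R K : Type u) [CommRing R] [IsDomain R] [ValuationRing R] [Field K] [Algebra R K] [IsFractionRing R K]
    (i₁ : Spec (CommRingCat.of K) ⟶ X) :
    ∃ (L : Type u) (_ : Field L) (pU : Spec (CommRingCat.of L) ⟶ U) (V : ValuationSubring L)
      (lV : Spec (CommRingCat.of V) ⟶ X) (Ω : Type u) (_ : Field Ω) (ωV : ResidueField V →+* Ω)
      (ωK : K →+* Ω) (AΩ : ValuationSubring Ω) (φ : R →+* AΩ),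
      Spec.map (CommRingCat.ofHom V.subtype) ≫ lV = pU ≫ h ∧
      Spec.map (CommRingCat.ofHom ωV) ≫ Spec.map (CommRingCat.ofHom (residue V)) ≫ lV =
        Spec.map (CommRingCat.ofHom ωK) ≫ i₁ ∧
      (∀ r, (φ r : Ω) = ωK (algebraMap R K r)) ∧ IsLocalHom φ := by
  have hx : i₁ (closedPoint K) ∈ closure (h '' Set.univ) := by rw [Set.image_univ]; exact hd _
  obtain ⟨u, -, hu⟩ := SpreadOut.exists_specializes_of_mem_closure_image h isClosed_univ hx
  let pU := U.fromSpecResidueField u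
  have hpU : (pU ≫ h) (closedPoint (U.residueField u)) ⤳ i₁ (closedPoint K) := by
    rw [Scheme.Hom.comp_apply, show pU (closedPoint (U.residueField u)) = u from
      Scheme.fromSpecResidueField_apply u _]
    exact hu
  obtain ⟨V, lV, hlV, hlVx⟩ := ASp.exists_valuation_lift (pU ≫ h) hpU
  let xV := Spec.map (CommRingCat.ofHom (residue V)) ≫ lV
  have hxV : xV (closedPoint (ResidueField V)) = i₁ (closedPoint K) := by
    rw [Scheme.Hom.comp_apply, show Spec.map (CommRingCat.ofHom (residue V)) (closedPoint (ResidueField V)) =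
      closedPoint V from comap_closedPoint (residue V), hlVx]
  obtain ⟨z, -, -⟩ := Scheme.Pullback.exists_preimage_pullback (f := xV) (g := i₁) (closedPoint (ResidueField V)) (closedPoint K) hxV
  obtain ⟨ωV, hωV⟩ := Spec.map_surjective (R := CommRingCat.of (ResidueField V))
    (S := (pullback xV i₁).residueField z) ((pullback xV i₁).fromSpecResidueField z ≫ pullback.fst xV i₁)
  obtain ⟨ωK, hωK⟩ := Spec.map_surjective (R := CommRingCat.of K)
    (S := (pullback xV i₁).residueField z) ((pullback xV i₁).fromSpecResidueField z ≫ pullback.snd xV i₁)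
  obtain ⟨AΩ, hA, hloc⟩ := IsLocalRing.exists_factor_valuationRing (ωK.hom.comp (algebraMap R K))
  refine ⟨_, inferInstance, pU, V, lV, _, inferInstance, ωV.hom, ωK.hom, AΩ,
    (ωK.hom.comp (algebraMap R K)).codRestrict AΩ.toSubring hA, hlV, ?_, fun r => rfl, hloc⟩
  rw [CommRingCat.ofHom_hom, CommRingCat.ofHom_hom, hωV, hωK, Category.assoc, Category.assoc,
    ← pullback.condition]

/-- Existence. -/
theorem existence (f : X ⟶ S) (h : U ⟶ X) [QuasiCompact h] (hd : DenseRange h.base)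
    (H : ∀ sq : ValuativeCommSq f, (∃ i : Spec (.of sq.K) ⟶ U, i ≫ h = sq.i₁) →
      Nonempty (Unique sq.commSq.LiftStruct)) : ValuativeCriterion.Existence f := by
  rintro ⟨R, K, i₁, i₂, ⟨w⟩⟩
  obtain ⟨L, _, pU, V, lV, Ω, _, ωV, ωK, AΩ, φ, hlV, hω, hφ, hloc⟩ := setup h hd R K i₁
  haveI := hloc
  let A₁ : ValuationSubring (ResidueField V) := AΩ.comap ωV
  let ι₁ : A₁ →+* AΩ := (ωV.comp A₁.subtype).codRestrict AΩ.toSubring fun a => a.2
  haveI : IsLocalHom ι₁ := isLocalHom_comap ωV AΩ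
  have hbR : Spec.map (CommRingCat.ofHom AΩ.subtype) ≫ Spec.map (CommRingCat.ofHom φ) ≫ i₂ =
      Spec.map (CommRingCat.ofHom ωV) ≫ Spec.map (CommRingCat.ofHom (residue V)) ≫ lV ≫ f := by
    rw [reassoc_of% hω, w, ← Spec.map_comp_assoc, ← Spec.map_comp_assoc]
    congr 2
    ext r
    exact hφ r
  obtain ⟨bA, hb1, hb2⟩ := descend ωV AΩ ι₁ (fun _ => rfl)
    (Spec.map (CommRingCat.ofHom (residue V)) ≫ lV ≫ f) (Spec.map (CommRingCat.ofHom φ) ≫ i₂) hbR
  obtain ⟨bC, hc1, hc2⟩ := glue V A₁ (lV ≫ f) bA hb1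
  set incl := ValuationSubring.inclusion (ASp.compositeVal V A₁) V
    fun _ hx => (ASp.mem_compositeVal.1 hx).1 with hincl
  have hsub : ∀ {T : Scheme.{u}} (g : Spec (CommRingCat.of (ASp.compositeVal V A₁)) ⟶ T),
      Spec.map (CommRingCat.ofHom (algebraMap (ASp.compositeVal V A₁) L)) ≫ g =
        Spec.map (CommRingCat.ofHom V.subtype) ≫ Spec.map (CommRingCat.ofHom incl) ≫ g := fun g => by
    rw [← Spec.map_comp_assoc]; rfl
  have wC : (pU ≫ h) ≫ f =
      Spec.map (CommRingCat.ofHom (algebraMap (ASp.compositeVal V A₁) L)) ≫ bC := by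
    rw [hsub, hc1, reassoc_of% hlV, Category.assoc]
  obtain ⟨uC⟩ := H (DVRCrit.mkSq f (ASp.compositeVal V A₁) L (pU ≫ h) bC wC) ⟨pU, rfl⟩
  obtain ⟨l, hl1, hl2⟩ := uC.default
  obtain ⟨uV⟩ := H (DVRCrit.mkSq f V L (pU ≫ h) (lV ≫ f) (by
    change (pU ≫ h) ≫ f = Spec.map (CommRingCat.ofHom V.subtype) ≫ lV ≫ f
    rw [reassoc_of% hlV, Category.assoc])) ⟨pU, rfl⟩
  have hlin : Spec.map (CommRingCat.ofHom incl) ≫ l = lV :=
    congrArg CommSq.LiftStruct.l (@Subsingleton.elim _ uV.instSubsingleton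
      ⟨Spec.map (CommRingCat.ofHom incl) ≫ l, (hsub l).symm.trans hl1,
        (Category.assoc _ _ _).trans ((congrArg (Spec.map (CommRingCat.ofHom incl) ≫ ·) hl2).trans hc1)⟩
      ⟨lV, hlV, rfl⟩)
  let m : Spec (CommRingCat.of AΩ) ⟶ X := Spec.map (CommRingCat.ofHom ι₁) ≫
    Spec.map (CommRingCat.ofHom (((residue V).comp incl).codRestrict A₁.toSubring
      fun x => (ASp.mem_compositeVal.1 x.2).2)) ≫ l
  obtain ⟨lR, hR1, hR2⟩ := descend ωK AΩ φ hφ i₁ m (by
    rw [← hω, ← hlin]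
    simp only [m, ← Spec.map_comp_assoc]
    rfl)
  refine ⟨⟨⟨lR, hR1, ?_⟩⟩⟩
  refine hom_eq_of_local φ (fun a b e => IsFractionRing.injective R K (ωK.injective ?_)) _ _ ?_
  · rw [← hφ, ← hφ, e]
  · rw [reassoc_of% hR2]
    simp only [m, Category.assoc]
    exact ((congrArg (fun g => Spec.map (CommRingCat.ofHom ι₁) ≫ Spec.map (CommRingCat.ofHom
      (((residue V).comp incl).codRestrict A₁.toSubring fun x => (ASp.mem_compositeVal.1 x.2).2)) ≫ g)
      hl2).trans (congrArg (Spec.map (CommRingCat.ofHom ι₁) ≫ ·) hc2)).trans hb2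

/-- Uniqueness. -/
theorem uniqueness (f : X ⟶ S) (h : U ⟶ X) [QuasiCompact h] (hd : DenseRange h.base)
    (H : ∀ sq : ValuativeCommSq f, (∃ i : Spec (.of sq.K) ⟶ U, i ≫ h = sq.i₁) →
      Nonempty (Unique sq.commSq.LiftStruct)) : ValuativeCriterion.Uniqueness f := by
  rintro ⟨R, K, i₁, i₂, ⟨w⟩⟩
  refine ⟨fun ⟨a, ha1, ha2⟩ ⟨b, hb1, hb2⟩ => ?_⟩
  obtain ⟨L, _, pU, V, lV, Ω, _, ωV, ωK, AΩ, φ, hlV, hω, hφ, hloc⟩ := setup h hd R K i₁
  haveI := hloc
  let A₁ : ValuationSubring (ResidueField V) := AΩ.comap ωV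
  let ι₁ : A₁ →+* AΩ := (ωV.comp A₁.subtype).codRestrict AΩ.toSubring fun a => a.2
  haveI : IsLocalHom ι₁ := isLocalHom_comap ωV AΩ
  set incl := ValuationSubring.inclusion (ASp.compositeVal V A₁) V
    fun _ hx => (ASp.mem_compositeVal.1 hx).1 with hincl
  let σ := ((residue V).comp incl).codRestrict A₁.toSubring fun x => (ASp.mem_compositeVal.1 x.2).2
  have hσ : Function.Surjective σ := fun x => by
    obtain ⟨v, hv⟩ := residue_surjective (x : ResidueField V)
    exact ⟨⟨v, ASp.mem_compositeVal.2 ⟨v.2, hv.symm ▸ x.2⟩⟩, Subtype.ext hv⟩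
  haveI : IsLocalHom σ := IsLocalHom.of_surjective σ hσ
  let τ : (ASp.compositeVal V A₁) →+* AΩ := ι₁.comp σ
  haveI : IsLocalHom τ := RingHom.isLocalHom_comp _ _
  have key : ∀ (a : Spec (CommRingCat.of R) ⟶ X),
      Spec.map (CommRingCat.ofHom (algebraMap R K)) ≫ a = i₁ → a ≫ f = i₂ →
      ∃ c : Spec (CommRingCat.of (ASp.compositeVal V A₁)) ⟶ X,
        Spec.map (CommRingCat.ofHom (algebraMap (ASp.compositeVal V A₁) L)) ≫ c = pU ≫ h ∧
        Spec.map (CommRingCat.ofHom τ) ≫ c = Spec.map (CommRingCat.ofHom φ) ≫ a := by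
    intro a h1 _
    obtain ⟨a₁, e1, e2⟩ := descend ωV AΩ ι₁ (fun _ => rfl) (Spec.map (CommRingCat.ofHom (residue V)) ≫ lV)
      (Spec.map (CommRingCat.ofHom φ) ≫ a) (by
        rw [hω, ← h1, ← Spec.map_comp_assoc, ← Spec.map_comp_assoc]
        congr 2
        ext r
        exact hφ r)
    obtain ⟨c, d1, d2⟩ := glue V A₁ lV a₁ e1
    refine ⟨c, ?_, ?_⟩
    · rw [show CommRingCat.ofHom (algebraMap (ASp.compositeVal V A₁) L) =
        CommRingCat.ofHom incl ≫ CommRingCat.ofHom V.subtype from rfl, Spec.map_comp, Category.assoc, d1, hlV]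
    · rw [show CommRingCat.ofHom τ = CommRingCat.ofHom σ ≫ CommRingCat.ofHom ι₁ from rfl,
        Spec.map_comp, Category.assoc, d2, e2]
  obtain ⟨ca, ca1, ca2⟩ := key a ha1 ha2
  obtain ⟨cb, cb1, cb2⟩ := key b hb1 hb2
  have hf : ca ≫ f = cb ≫ f := by
    refine hom_eq (algebraMap (ASp.compositeVal V A₁) L) Subtype.coe_injective _ _ ?_
      (by rw [reassoc_of% ca1, reassoc_of% cb1])
    have h3 : Spec.map (CommRingCat.ofHom τ) ≫ ca ≫ f = Spec.map (CommRingCat.ofHom τ) ≫ cb ≫ f := by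
      rw [reassoc_of% ca2, reassoc_of% cb2, ha2, hb2]
    have := congrArg (fun g : Spec (CommRingCat.of AΩ) ⟶ S => g (closedPoint AΩ)) h3
    simpa only [Scheme.Hom.comp_apply, show Spec.map (CommRingCat.ofHom τ) (closedPoint AΩ) =
      closedPoint (ASp.compositeVal V A₁) from comap_closedPoint τ] using this
  obtain ⟨uC⟩ := H (DVRCrit.mkSq f (ASp.compositeVal V A₁) L (pU ≫ h) (ca ≫ f) (by
    rw [reassoc_of% ca1, Category.assoc])) ⟨pU, rfl⟩
  have hc : ca = cb := congrArg CommSq.LiftStruct.l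
    (@Subsingleton.elim _ uC.instSubsingleton ⟨ca, ca1, rfl⟩ ⟨cb, cb1, hf.symm⟩)
  ext1
  refine hom_eq_of_local φ (fun x y e => IsFractionRing.injective R K (ωK.injective ?_)) _ _ ?_
  · rw [← hφ, ← hφ, e]
  · rw [← ca2, ← cb2, hc]

end Groth.Agent.DenseVal
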